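import Mathlib
import Groth.Prelude.Def_CohB1
import Groth.Prelude.Def_P1
import Groth.Agent.S18573
import Groth.Agent.ProperFin.PnBase

/-!
Clopen subsets of `ℙ¹_S` and of schemes finite flat over it.
-/

set_option autoImplicit false
set_option backward.isDefEq.respectTransparency.types false

universe u

open CategoryTheory CategoryTheory.Limits AlgebraicGeometry

namespace Groth.Agent.P1Fin71

variable {S X : Scheme.{u}}

theorem isPullback_toP1 {S' : Scheme.{u}} (g : S' ⟶ S) :
    IsPullback (P1.toP1 g) (CohB1.ProjSpaceOver.toBase 1 S') (CohB1.ProjSpaceOver.toBase 1 S) g := by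
  refine IsPullback.of_right ?_ (pullback.lift_snd _ _ _)
    (IsPullback.of_hasPullback (CohB1.ProjSpace.toSpec 1 (ULift.{u} ℤ)) (specULiftZIsTerminal.from S))
  rw [show g ≫ specULiftZIsTerminal.from S = specULiftZIsTerminal.from S' from
    specULiftZIsTerminal.hom_ext _ _]
  convert! IsPullback.of_hasPullback (CohB1.ProjSpace.toSpec 1 (ULift.{u} ℤ))
    (specULiftZIsTerminal.from S') using 1
  exact (pullback.lift_fst _ _ _).trans (Category.comp_id _)

theorem preconnectedSpace_field (K : Type u) [Field K] :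
    PreconnectedSpace (CohB1.ProjSpaceOver 1 (Spec (CommRingCat.of K))) := by
  obtain ⟨e, -⟩ := Groth.Agent.ProperFin.exists_iso_projSpaceOver 1 K
  have := Groth.Agent.S18573.irreducibleSpace_projSpace 1 K
  refine ⟨?_⟩
  have h := (isPreconnected_univ (α := CohB1.ProjSpace 1 K)).image e.inv.base e.inv.continuous.continuousOn
  rwa [Set.image_univ, e.inv.surjective.range_eq] at h

theorem toBase_sect (i : Fin (1 + 1)) (s : S) : CohB1.ProjSpaceOver.toBase 1 S (P1.sect S i s) = s := by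
  have : P1.sect S i ≫ CohB1.ProjSpaceOver.toBase 1 S = 𝟙 S := pullback.lift_snd _ _ _
  rw [← Scheme.Hom.comp_apply, this]
  rfl

/-- A clopen subset of `ℙ¹_S` is a union of fibres. -/
theorem mem_iff_sect_mem {Z : Set (CohB1.ProjSpaceOver 1 S)} (hZ : IsClopen Z)
    (p : CohB1.ProjSpaceOver 1 S) :
    p ∈ Z ↔ P1.sect S 0 (CohB1.ProjSpaceOver.toBase 1 S p) ∈ Z := by
  let s := CohB1.ProjSpaceOver.toBase 1 S p
  let g := S.fromSpecResidueField s
  obtain ⟨z⟩ : Nonempty (Spec (S.residueField s)) := inferInstanceAs (Nonempty (PrimeSpectrum _))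
  have hz : g z = s := Scheme.fromSpecResidueField_apply s z
  have key : ∀ q, CohB1.ProjSpaceOver.toBase 1 S q = s → ∃ q', P1.toP1 g q' = q := fun q hq => by
    obtain ⟨w, hw, -⟩ := Scheme.Pullback.exists_preimage_pullback (f := CohB1.ProjSpaceOver.toBase 1 S)
      (g := g) q z (hq.trans hz.symm)
    exact ⟨(isPullback_toP1 g).isoPullback.inv w, by
      rw [← Scheme.Hom.comp_apply, IsPullback.isoPullback_inv_fst, hw]⟩
  obtain ⟨q, hq⟩ := key p rfl
  obtain ⟨q', hq'⟩ := key (P1.sect S 0 s) (toBase_sect 0 s)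
  haveI := preconnectedSpace_field (S.residueField s)
  rcases isClopen_iff.1 (hZ.preimage (P1.toP1 g).continuous) with h | h
  · refine iff_of_false (fun hp => ?_) (fun hp => ?_)
    · exact Set.eq_empty_iff_forall_notMem.1 h q (Set.mem_preimage.2 (hq.symm ▸ hp))
    · exact Set.eq_empty_iff_forall_notMem.1 h q' (Set.mem_preimage.2 (hq'.symm ▸ hp))
  · have a : P1.toP1 g q ∈ Z := Set.eq_univ_iff_forall.1 h q
    have b : P1.toP1 g q' ∈ Z := Set.eq_univ_iff_forall.1 h q'
    rw [hq] at a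
    rw [hq'] at b
    exact iff_of_true a b

theorem preconnectedSpace_projSpaceOver [PreconnectedSpace S] :
    PreconnectedSpace (CohB1.ProjSpaceOver 1 S) := by
  refine preconnectedSpace_iff_clopen.2 fun Z hZ => ?_
  rcases isClopen_iff.1 (hZ.preimage (P1.sect S 0).continuous) with h | h
  · exact Or.inl (Set.eq_empty_of_forall_notMem fun p hp =>
      Set.eq_empty_iff_forall_notMem.1 h _ ((mem_iff_sect_mem hZ p).1 hp))
  · exact Or.inr (Set.eq_univ_of_forall fun p =>
      (mem_iff_sect_mem hZ p).2 (Set.eq_univ_iff_forall.1 h (CohB1.ProjSpaceOver.toBase 1 S p)))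

variable (g : X ⟶ CohB1.ProjSpaceOver 1 S) [IsFinite g] [Flat g] [LocallyOfFinitePresentation g]

theorem isClopen_image {W : Set X} (hW : IsClopen W) : IsClopen (g '' W) :=
  ⟨g.isClosedMap _ hW.1, g.isOpenMap _ hW.2⟩

theorem eq_univ_of_isClopen {W : Set X} (hW : IsClopen W)
    (h0 : ∀ x : X, g x ∈ Set.range (P1.sect S 0) → x ∈ W) : W = Set.univ := by
  refine Set.eq_univ_of_forall fun x => by_contra fun hx => ?_
  have h := (mem_iff_sect_mem (isClopen_image g hW.compl) (g x)).1 ⟨x, hx, rfl⟩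
  obtain ⟨y, hy, hy'⟩ := h
  exact hy (h0 y ⟨_, hy'.symm⟩)

theorem exists_mem_connectedComponent [PreconnectedSpace S] (x : X) (p : CohB1.ProjSpaceOver 1 S) :
    ∃ y ∈ connectedComponent x, g y = p := by
  classical
  have := preconnectedSpace_projSpaceOver (S := S)
  have hsurj : ∀ W : Set X, IsClopen W → W.Nonempty → ∀ q, ∃ y ∈ W, g y = q := fun W hW hne q => by
    rcases isClopen_iff.1 (isClopen_image g hW) with h | h
    · exact absurd (h ▸ hne.image g) Set.not_nonempty_empty
    · exact Set.eq_univ_iff_forall.1 h q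
  -- clopen subsets are determined by their trace on a finite fibre
  have hinj : Function.Injective (fun W : {W : Set X // IsClopen W} => W.1 ∩ g ⁻¹' {p}) := by
    rintro ⟨W₁, h₁⟩ ⟨W₂, h₂⟩ h
    apply Subtype.ext
    simp only at h ⊢
    refine Set.Subset.antisymm (fun a ha => by_contra fun hb => ?_) (fun a ha => by_contra fun hb => ?_)
    · obtain ⟨y, hy, hyp⟩ := hsurj _ (h₁.diff h₂) ⟨a, ha, hb⟩ p
      exact hy.2 (h.le ⟨hy.1, hyp⟩).1
    · obtain ⟨y, hy, hyp⟩ := hsurj _ (h₂.diff h₁) ⟨a, ha, hb⟩ p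
      exact hy.2 (h.ge ⟨hy.1, hyp⟩).1
  have hfin : (g ⁻¹' {p}).Finite := g.finite_preimage_singleton p
  haveI : Finite {W : Set X // IsClopen W} := by
    haveI := hfin.powerset.to_subtype
    exact Finite.of_injective
      (fun W : {W : Set X // IsClopen W} => (⟨W.1 ∩ g ⁻¹' {p}, Set.inter_subset_right⟩ : 𝒫 (g ⁻¹' {p})))
      fun a b h => hinj (congrArg Subtype.val h)
  let Q : Set X := ⋂ W : {W : Set X // IsClopen W ∧ x ∈ W}, W.1
  haveI : Finite {W : Set X // IsClopen W ∧ x ∈ W} :=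
    Finite.of_injective (fun W => (⟨W.1, W.2.1⟩ : {W : Set X // IsClopen W}))
      fun a b h => Subtype.ext (by simpa using h)
  have hQ : IsClopen Q := isClopen_iInter_of_finite fun W => W.2.1
  have hxQ : x ∈ Q := Set.mem_iInter.2 fun W => W.2.2
  have hconn : _root_.IsPreconnected Q := by
    refine isPreconnected_iff_preconnectedSpace.2 (preconnectedSpace_iff_clopen.2 fun s hs => ?_)
    have hc : IsClopen (Subtype.val '' s) :=
      ⟨hQ.1.isClosedEmbedding_subtypeVal.isClosedMap _ hs.1,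
        hQ.2.isOpenEmbedding_subtypeVal.isOpenMap _ hs.2⟩
    by_cases hx : (⟨x, hxQ⟩ : Q) ∈ s
    · refine Or.inr (Set.eq_univ_of_forall fun z => ?_)
      have hz : z.1 ∈ Subtype.val '' s :=
        Set.mem_iInter.1 z.2 ⟨Subtype.val '' s, hc, ⟨_, hx, rfl⟩⟩
      obtain ⟨z', hz', e⟩ := hz
      rwa [← Subtype.ext e]
    · refine Or.inl (Set.eq_empty_of_forall_notMem fun z hz => ?_)
      have hz' : z.1 ∈ Q \ Subtype.val '' s := Set.mem_iInter.1 z.2
        ⟨Q \ Subtype.val '' s, hQ.diff hc, hxQ, by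
          rintro ⟨w, hw, e⟩
          exact hx (by rwa [← (Subtype.ext e : w = ⟨x, hxQ⟩)])⟩
      exact hz'.2 ⟨z, hz, rfl⟩
  obtain ⟨y, hy, hyp⟩ := hsurj Q hQ ⟨x, hxQ⟩ p
  exact ⟨y, hconn.subset_connectedComponent hxQ hy, hyp⟩

end Groth.Agent.P1Fin71
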